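import Cfsg.Agent.H793.TD.Grp

/-!
# The double cover of `A₇` in dimension six : characteristic different from three (helper793)
-/

set_option autoImplicit false
set_option linter.unusedSectionVars false

namespace Cfsg.Agent.H793.TD

open Cfsg Cfsg.Geo Matrix Cfsg.Agent.H637.A7Grp Cfsg.Agent.H637.A7Cov Cfsg.Agent.H915.LD Subgroup

universe u v

section mat

variable {ι : Type} [Fintype ι] [DecidableEq ι] {F : Type u} [Field F]

/-- `T C T⁻¹ = A⁻¹`, `C = T A T⁻¹`, dimension six : `A + A² + C + C² - 4` is singular. -/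
theorem det_zero (h2 : (2 : F) ≠ 0) (hn : Fintype.card ι = 6) {A C T S : Matrix ι ι F}
    (hA : A * A * A = 1) (hC : C * C * C = 1) (hAC : A * C = C * A) (hS : T * S = 1)
    (h1 : T * A * S = C) (h3 : T * C * S = A * A) : (A + A * A + C + C * C - 4 • (1 : Matrix ι ι F)).det = 0 := by
  classical
  let K := AlgebraicClosure F
  obtain ⟨i, hi⟩ : ∃ i : K, i * i = -1 := by
    obtain ⟨i, hi⟩ := IsAlgClosed.exists_pow_nat_eq (-1 : K) (n := 2) (by norm_num)
    exact ⟨i, by rw [← pow_two, hi]⟩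
  have h2K : (2 : K) ≠ 0 := by
    intro h
    apply h2
    apply (algebraMap F K).injective
    rw [map_ofNat, map_zero, h]
  have key : ∀ {A C T S : Matrix ι ι K}, A * A * A = 1 → C * C * C = 1 → A * C = C * A → T * S = 1 →
      T * A * S = C → T * C * S = A * A → (A + A * A + C + C * C - 4 • (1 : Matrix ι ι K)).det = 0 := by
    intro A C T S hA hC hAC hS h1 h3
    have hS' : S * T = 1 := mul_eq_one_comm.1 hS
    have e1 : T * (A * A) * S = C * C := by
      rw [← h1]
      calc T * (A * A) * S = T * A * 1 * A * S := by rw [Matrix.mul_one]; simp only [Matrix.mul_assoc]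
        _ = T * A * (S * T) * A * S := by rw [hS']
        _ = T * A * S * (T * A * S) := by simp only [Matrix.mul_assoc]
    have e2 : T * (C * C) * S = A := by
      calc T * (C * C) * S = T * C * 1 * C * S := by rw [Matrix.mul_one]; simp only [Matrix.mul_assoc]
        _ = T * C * (S * T) * C * S := by rw [hS']
        _ = T * C * S * (T * C * S) := by simp only [Matrix.mul_assoc]
        _ = A * A * A * A := by rw [h3]; simp only [Matrix.mul_assoc]
        _ = A := by rw [hA, Matrix.one_mul]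
    set M := (A - A * A) - i • (C - C * C) with hM
    have e3 : T * M * S = i • M := by
      rw [hM]
      simp only [Matrix.mul_sub, Matrix.sub_mul, Matrix.mul_smul, Matrix.smul_mul, smul_sub, smul_smul, hi, h1, h3, e1, e2,
        neg_smul, one_smul]
      abel
    have e4 : M.det = 0 := by
      have h4 := congrArg Matrix.det e3
      rw [Matrix.det_mul, Matrix.det_mul, Matrix.det_smul, hn, show i ^ 6 = -1 by
        rw [show 6 = 2 * 3 from rfl, pow_mul, pow_two, hi]; norm_num] at h4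
      have h5 : T.det * S.det = 1 := by rw [← Matrix.det_mul, hS, Matrix.det_one]
      have h6 : (2 : K) * M.det = 0 := by linear_combination h4 - M.det * h5
      exact (mul_eq_zero.1 h6).resolve_left h2K
    have e5 : M * ((A - A * A) + i • (C - C * C)) = A + A * A + C + C * C - 4 • (1 : Matrix ι ι K) := by
      have a1 : (A - A * A) * (A - A * A) = A + A * A - 2 • (1 : Matrix ι ι K) := by
        have : (A - A * A) * (A - A * A) = A * A - A * A * A - A * A * A + A * A * A * A := by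
          simp only [sub_mul, mul_sub, mul_assoc]; abel
        rw [this, hA, Matrix.one_mul, two_smul]
        abel
      have a2 : (C - C * C) * (C - C * C) = C + C * C - 2 • (1 : Matrix ι ι K) := by
        have : (C - C * C) * (C - C * C) = C * C - C * C * C - C * C * C + C * C * C * C := by
          simp only [sub_mul, mul_sub, mul_assoc]; abel
        rw [this, hC, Matrix.one_mul, two_smul]
        abel
      have a3 : (A - A * A) * (C - C * C) = (C - C * C) * (A - A * A) := by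
        have c0 : Commute A C := hAC
        have c1 : Commute (A - A * A) C := Commute.sub_left c0 (c0.mul_left c0)
        exact (c1.sub_right (c1.mul_right c1)).eq
      rw [hM, Matrix.sub_mul, Matrix.mul_add, Matrix.mul_add, Matrix.mul_smul, Matrix.smul_mul, Matrix.smul_mul,
        Matrix.mul_smul, smul_smul, hi, a1, a2, a3, neg_smul, one_smul]
      have : (4 : ℕ) • (1 : Matrix ι ι K) = 2 • 1 + 2 • 1 := by rw [← add_smul]
      rw [this]
      abel
    rw [← e5, Matrix.det_mul, e4, zero_mul]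
  apply (algebraMap F K).injective
  rw [map_zero, RingHom.map_det, map_sub, map_add, map_add, map_add, map_mul, map_mul, map_nsmul, map_one]
  apply key (T := (algebraMap F K).mapMatrix T) (S := (algebraMap F K).mapMatrix S)
  · rw [← map_mul, ← map_mul, hA, map_one]
  · rw [← map_mul, ← map_mul, hC, map_one]
  · rw [← map_mul, ← map_mul, hAC]
  · rw [← map_mul, hS, map_one]
  · rw [← map_mul, ← map_mul, h1]
  · rw [← map_mul, ← map_mul, h3, map_mul]

/-- a fixed vector -/
theorem exists_fixed (h2 : (2 : F) ≠ 0) (h30 : (3 : F) ≠ 0) (hn : Fintype.card ι = 6) {A C T S : Matrix ι ι F}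
    (hA : A * A * A = 1) (hC : C * C * C = 1) (hAC : A * C = C * A) (hS : T * S = 1)
    (h1 : T * A * S = C) (h3 : T * C * S = A * A) : ∃ v : ι → F, v ≠ 0 ∧ A *ᵥ v = v ∧ C *ᵥ v = v := by
  obtain ⟨v, hv, hv0⟩ := Matrix.exists_mulVec_eq_zero_iff.2 (det_zero h2 hn hA hC hAC hS h1 h3)
  have key : ∀ {A C : Matrix ι ι F}, A * A * A = 1 → C * C * C = 1 → A * C = C * A →
      (A + A * A + C + C * C - 4 • (1 : Matrix ι ι F)) *ᵥ v = 0 → A *ᵥ v = v := by
    intro A C hA hC hAC hv0
    have c0 : Commute A C := hAC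
    set α := A + A * A with hα
    set γ := C + C * C with hγ
    have hαγ : α * γ = γ * α := by
      have c1 : Commute α C := Commute.add_left c0 (c0.mul_left c0)
      exact (c1.add_right (c1.mul_right c1)).eq
    have α2 : α * α = α + 2 • (1 : Matrix ι ι F) := by
      have : α * α = A * A + A * A * A + A * A * A + A * A * A * A := by rw [hα]; noncomm_ring
      rw [this, hA, Matrix.one_mul, two_smul, hα]
      abel
    have γ2 : γ * γ = γ + 2 • (1 : Matrix ι ι F) := by
      have : γ * γ = C * C + C * C * C + C * C * C + C * C * C * C := by rw [hγ]; noncomm_ring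
      rw [this, hC, Matrix.one_mul, two_smul, hγ]
      abel
    -- `(α + γ - 4) v = 0`
    have e0 : α *ᵥ v + γ *ᵥ v = (4 : F) • v := by
      have h4 : (α + γ - 4 • (1 : Matrix ι ι F)) *ᵥ v = 0 := by
        rw [← hv0, hα, hγ]
        congr 2
        abel
      rw [Matrix.sub_mulVec, Matrix.add_mulVec, Matrix.smul_mulVec, Matrix.one_mulVec, sub_eq_zero] at h4
      rw [h4, ← Nat.cast_smul_eq_nsmul F]
      norm_num
    have α2v : ∀ w : ι → F, α *ᵥ (α *ᵥ w) = α *ᵥ w + (2 : F) • w := by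
      intro w
      rw [Matrix.mulVec_mulVec, α2, Matrix.add_mulVec, Matrix.smul_mulVec, Matrix.one_mulVec, ← Nat.cast_smul_eq_nsmul F]
      norm_num
    have γ2v : ∀ w : ι → F, γ *ᵥ (γ *ᵥ w) = γ *ᵥ w + (2 : F) • w := by
      intro w
      rw [Matrix.mulVec_mulVec, γ2, Matrix.add_mulVec, Matrix.smul_mulVec, Matrix.one_mulVec, ← Nat.cast_smul_eq_nsmul F]
      norm_num
    have hc : α *ᵥ (γ *ᵥ v) = γ *ᵥ (α *ᵥ v) := by rw [Matrix.mulVec_mulVec, Matrix.mulVec_mulVec, hαγ]
    -- `x = α v - 2 v` is killed by `α + 1` and `γ + 1`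
    set x := α *ᵥ v - (2 : F) • v with hx
    have hx' : x = -(γ *ᵥ v - (2 : F) • v) := by
      rw [hx]
      have : γ *ᵥ v = (4 : F) • v - α *ᵥ v := by rw [← e0]; abel
      rw [this, show (4 : F) = 2 + 2 by norm_num, add_smul]
      abel
    have e1 : α *ᵥ x = -x := by
      rw [hx, Matrix.mulVec_sub, α2v, Matrix.mulVec_smul, two_smul F (α *ᵥ v)]
      abel
    have e2 : γ *ᵥ x = -x := by
      conv_lhs => rw [hx']
      rw [Matrix.mulVec_neg, Matrix.mulVec_sub, γ2v, Matrix.mulVec_smul, hx', two_smul F (γ *ᵥ v)]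
      abel
    have e3 : α *ᵥ x + γ *ᵥ x = (4 : F) • x := by
      rw [hx, Matrix.mulVec_sub, Matrix.mulVec_sub, Matrix.mulVec_smul, Matrix.mulVec_smul, smul_sub, ← hc,
        smul_comm (4 : F) (2 : F), ← e0, smul_add]
      have : α *ᵥ (α *ᵥ v) + α *ᵥ (γ *ᵥ v) = (4 : F) • α *ᵥ v := by
        rw [← Matrix.mulVec_add, e0, Matrix.mulVec_smul]
      rw [← this]
      abel
    have e4 : x = 0 := by
      rw [e1, e2] at e3
      have h6 : ((2 : F) * 3) • x = 0 := by
        have : (6 : F) • x = (4 : F) • x + (2 : F) • x := by rw [← add_smul]; norm_num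
        rw [show (2 : F) * 3 = 6 by norm_num, this, ← e3, two_smul]
        abel
      exact (smul_eq_zero.1 h6).resolve_left (mul_ne_zero h2 h30)
    have e5 : A *ᵥ v + A *ᵥ (A *ᵥ v) = (2 : F) • v := by
      have h7 : α *ᵥ v = (2 : F) • v := sub_eq_zero.1 e4
      rw [← h7, hα, Matrix.add_mulVec, Matrix.mulVec_mulVec]
    have e6 : A *ᵥ (A *ᵥ v) + v = (2 : F) • (A *ᵥ v) := by
      have h7 := congrArg (A *ᵥ ·) e5
      simp only [Matrix.mulVec_add, Matrix.mulVec_smul, Matrix.mulVec_mulVec] at h7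
      rw [← h7, Matrix.mulVec_mulVec, ← Matrix.mul_assoc, hA, Matrix.one_mulVec]
    have e7 : (3 : F) • (A *ᵥ v - v) = 0 := by
      rw [smul_sub, show (3 : F) = 2 + 1 by norm_num, add_smul, add_smul, one_smul, one_smul, ← e5, ← e6]
      abel
    exact sub_eq_zero.1 ((smul_eq_zero.1 e7).resolve_left h30)
  refine ⟨v, hv, key hA hC hAC hv0, key hC hA hAC.symm ?_⟩
  rw [← hv0]
  congr 2
  abel

end mat

section rep

variable {ι : Type} [Fintype ι] [DecidableEq ι] {F : Type u} [Field F] {P : Subgroup (GL ι F)}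
  {π : P →* alternatingGroup (Fin 7)} {g : Fin 5 → P} {z : P}

/-- the matrix of an element of `P` -/
def mt (x : P) : Matrix ι ι F := ((x : GL ι F) : Matrix ι ι F)

theorem mt_mul (x y : P) : mt (x * y) = mt x * mt y := by unfold mt; rw [Subgroup.coe_mul, Units.val_mul]

theorem mt_one : mt (1 : P) = 1 := rfl

theorem mt_mulVec (x y : P) (v : ι → F) : mt (x * y) *ᵥ v = mt x *ᵥ (mt y *ᵥ v) := by
  rw [mt_mul, Matrix.mulVec_mulVec]

theorem mt_inv_mulVec (x : P) {v w : ι → F} (h : mt x *ᵥ v = w) : mt x⁻¹ *ᵥ w = v := by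
  rw [← h, ← mt_mulVec, inv_mul_cancel, mt_one, Matrix.one_mulVec]

/-- the common fixed space -/
def fx (S : Set P) : Submodule F (ι → F) where
  carrier := {v | ∀ x ∈ S, mt x *ᵥ v = v}
  add_mem' := fun {u v} hu hv x hx => by rw [Matrix.mulVec_add, hu x hx, hv x hx]
  zero_mem' := fun x _ => Matrix.mulVec_zero _
  smul_mem' := fun c v hv x hx => by rw [Matrix.mulVec_smul, hv x hx]

theorem mem_fx {S : Set P} {v : ι → F} : v ∈ fx S ↔ ∀ x ∈ S, mt x *ᵥ v = v := Iff.rfl

theorem map_fx (y : P) {S S' : Set P} (h : ∀ x ∈ S', y⁻¹ * x * y ∈ S ∨ (y⁻¹ * x * y)⁻¹ ∈ S) :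
    (fx S).map (Matrix.toLin' (mt y)) ≤ fx S' := by
  rintro _ ⟨v, hv, rfl⟩ x hx
  rw [Matrix.toLin'_apply, ← mt_mulVec]
  have h1 : mt (y⁻¹ * x * y) *ᵥ v = v := by
    rcases h x hx with h | h
    · exact hv _ h
    · have := mt_inv_mulVec _ (hv _ h)
      rwa [inv_inv] at this
  rw [show x * y = y * (y⁻¹ * x * y) by group, mt_mulVec, h1]

theorem finrank_map (y : P) (W : Submodule F (ι → F)) :
    Module.finrank F (W.map (Matrix.toLin' (mt y))) = Module.finrank F W := by
  have hinj : Function.Injective (Matrix.toLin' (mt y)) := by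
    intro u v h
    rw [Matrix.toLin'_apply, Matrix.toLin'_apply] at h
    rw [← mt_inv_mulVec y (rfl : mt y *ᵥ u = _), h, mt_inv_mulVec y rfl]
  exact (Submodule.equivMapOfInjective _ hinj W).finrank_eq.symm

/-- disjoint subspaces of a subspace -/
theorem two_mul_le (y : P) {S S' : Set P} (h : ∀ x ∈ S', y⁻¹ * x * y ∈ S ∨ (y⁻¹ * x * y)⁻¹ ∈ S)
    (hd : fx S ⊓ fx S' = ⊥) {W : Submodule F (ι → F)} (hW : W ≤ fx S) :
    2 * Module.finrank F W ≤ Module.finrank F (W ⊔ W.map (Matrix.toLin' (mt y)) : Submodule F (ι → F)) := by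
  have h1 := Submodule.finrank_sup_add_finrank_inf_eq W (W.map (Matrix.toLin' (mt y)))
  have h2 : W ⊓ W.map (Matrix.toLin' (mt y)) = ⊥ := by
    rw [eq_bot_iff, ← hd]
    exact inf_le_inf hW ((Submodule.map_mono hW).trans (map_fx y h))
  rw [h2, finrank_bot, add_zero, finrank_map] at h1
  omega

/-- a pair fixed by `A` and `A'` -/
theorem Good_no_common (h2 : (2 : F) ≠ 0) (H : Good π g z) (hz : mt z = -1) {v : ι → F} (h0 : mt (g 0) *ᵥ v = v)
    (h1 : mt (g 1) *ᵥ v = v) : v = 0 := by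
  have e1 : mt z *ᵥ v = v := by
    have e0 : mt (g 0 * g 1) *ᵥ v = v := by rw [mt_mulVec, h1, h0]
    rw [← H.sq 0 1 (by decide), pow_two, mt_mulVec, e0, e0]
  rw [hz, Matrix.neg_mulVec, Matrix.one_mulVec] at e1
  have e2 : (2 : F) • v = 0 := by
    rw [two_smul]
    nth_rewrite 1 [← e1]
    exact neg_add_cancel v
  exact (smul_eq_zero.1 e2).resolve_left h2

theorem not_big (h2 : (2 : F) ≠ 0) (h30 : (3 : F) ≠ 0) (hn : Fintype.card ι = 6) (H : Good π g z) (hz : mt z = -1)
    (hA : FixA P) : False := by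
  obtain ⟨f, hf, hfix⟩ := hA
  have hfix' : ∀ (x : P) (u v : ι → F), f (mt x *ᵥ u) (mt x *ᵥ v) = f u v := fun x u v =>
    hfix _ ⟨_, x.2, rfl⟩ u v
  obtain ⟨T, hT⟩ := H.surj tA
  obtain ⟨R, hR⟩ := H.surj rA
  set A := g 0 with hAdef
  set A' := g 1 with hA'def
  have hA3 : A ^ 3 = 1 := H.cube 0
  have hA3' : A' ^ 3 = 1 := H.cube 1
  have hAi : A⁻¹ = A * A := by
    rw [inv_eq_iff_mul_eq_one, ← mul_assoc, ← hA3, pow_succ, pow_two]
  set C := T * A * T⁻¹ with hC
  have conj3 : ∀ {x y : P}, x ^ 3 = 1 → (y * x * y⁻¹) ^ 3 = 1 := by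
    intro x y h
    rw [conj_pow, h, mul_one, mul_inv_cancel]
  have hC3 : C ^ 3 = 1 := conj3 hA3
  have hπA : π A = s 0 := H.gP 0
  have hπA' : π A' = s 1 := H.gP 1
  have hπC : π C = tA * s 0 * tA⁻¹ := by rw [hC, map_mul, map_mul, map_inv, hT, hπA]
  have i3 : ∀ {x : P}, x ^ 3 = 1 → x⁻¹ ^ 3 = 1 := by
    intro x h
    rw [inv_pow, h, inv_one]
  have e1 : T * C * T⁻¹ = A⁻¹ := cube_eq H (by
    rw [map_mul, map_mul, map_inv, map_inv, hT, hπC, hπA, tA_conj]) (conj3 hC3) (i3 hA3)
  have e2 : C * A * C⁻¹ = A := cube_eq H (by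
    rw [map_mul, map_mul, map_inv, hπC, hπA, s_comm]) (conj3 hA3) hA3
  have e3 : R * A * R⁻¹ = A'⁻¹ := cube_eq H (by
    rw [map_mul, map_mul, map_inv, map_inv, hR, hπA, hπA', rA_conj]) (conj3 hA3) (i3 hA3')
  have e4 : R * C * R⁻¹ = C := cube_eq H (by
    rw [map_mul, map_mul, map_inv, hR, hπC, rA_comm]) (conj3 hC3) hC3
  have e5 : A * C = C * A := by
    rw [mul_inv_eq_iff_eq_mul] at e2
    exact e2.symm
  -- a fixed vector
  obtain ⟨v, hv, hvA, hvC⟩ : ∃ v : ι → F, v ≠ 0 ∧ mt A *ᵥ v = v ∧ mt C *ᵥ v = v := by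
    apply exists_fixed h2 h30 hn (T := mt T) (S := mt T⁻¹)
    · rw [← mt_mul, ← mt_mul, ← mt_one (P := P), ← hA3, pow_succ, pow_two]
    · rw [← mt_mul, ← mt_mul, ← mt_one (P := P), ← hC3, pow_succ, pow_two]
    · rw [← mt_mul, ← mt_mul, e5]
    · rw [← mt_mul, mul_inv_cancel, mt_one]
    · rw [← mt_mul, ← mt_mul, hC]
    · rw [← mt_mul, ← mt_mul, ← mt_mul, e1, hAi]
  -- the fixed space of `A` and `C` is non-degenerate
  set W : Submodule F (ι → F) := fx {A, C} with hW
  have hvW : v ∈ W := by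
    rintro x (rfl | hx)
    · exact hvA
    · rw [Set.mem_singleton_iff.1 hx]; exact hvC
  obtain ⟨w, hwW, hvw⟩ : ∃ w ∈ W, f v w ≠ 0 := by
    obtain ⟨w, hw⟩ := (hf.nondegenerate v hv).2
    -- averages
    have avg : ∀ (B : P), B ^ 3 = 1 → mt B *ᵥ v = v → ∀ w : ι → F, f v w ≠ 0 →
        mt B *ᵥ (w + mt B *ᵥ w + mt (B * B) *ᵥ w) = w + mt B *ᵥ w + mt (B * B) *ᵥ w ∧
        f v (w + mt B *ᵥ w + mt (B * B) *ᵥ w) ≠ 0 := by
      intro B hB hBv w hw
      refine ⟨?_, ?_⟩
      · rw [Matrix.mulVec_add, Matrix.mulVec_add, ← mt_mulVec, ← mt_mulVec, ← mul_assoc,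
          show B * B * B = 1 by rw [← hB, pow_succ, pow_two], mt_one, Matrix.one_mulVec]
        abel
      · rw [hf.bilinear.add_right, hf.bilinear.add_right]
        have a1 : f v (mt B *ᵥ w) = f v w := by
          conv_lhs => rw [← hBv]
          exact hfix' _ _ _
        have a2 : f v (mt (B * B) *ᵥ w) = f v w := by
          conv_lhs => rw [← hBv, mt_mulVec]
          rw [hfix', a1]
        rw [a1, a2]
        intro h
        apply hw
        have : (3 : F) * f v w = 0 := by linear_combination h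
        exact (mul_eq_zero.1 this).resolve_left h30
    obtain ⟨b1, b2⟩ := avg A hA3 hvA w hw
    obtain ⟨b3, b4⟩ := avg C hC3 hvC _ b2
    set w1 := w + mt A *ᵥ w + mt (A * A) *ᵥ w with hw1
    have c1 : ∀ x : P, A * x = x * A → mt A *ᵥ (mt x *ᵥ w1) = mt x *ᵥ w1 := by
      intro x hx
      rw [← mt_mulVec, hx, mt_mulVec, b1]
    refine ⟨_, ?_, b4⟩
    rintro x (rfl | hx)
    · rw [Matrix.mulVec_add, Matrix.mulVec_add, b1, c1 C e5, c1 (C * C) (by rw [← mul_assoc, e5, mul_assoc C A, e5, ← mul_assoc])]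
    · rw [Set.mem_singleton_iff.1 hx]; exact b3
  have hW2 : 2 ≤ Module.finrank F W := by
    have hli : LinearIndependent F ![(⟨v, hvW⟩ : W), ⟨w, hwW⟩] := by
      rw [LinearIndependent.pair_iff]
      intro a b hab
      have h1 : a • v + b • w = 0 := congrArg Subtype.val hab
      have h3 : f v (a • v + b • w) = b * f v w := by
        rw [hf.bilinear.add_right, hf.bilinear.smul_right, hf.bilinear.smul_right, hf.alternating, mul_zero, zero_add]
      have h4 : f v 0 = 0 := by
        have := hf.bilinear.smul_right 0 v 0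
        rw [zero_smul, zero_mul] at this
        exact this
      rw [h1, h4] at h3
      have hb : b = 0 := (mul_eq_zero.1 h3.symm).resolve_right hvw
      rw [hb, zero_smul, add_zero] at h1
      exact ⟨(smul_eq_zero.1 h1).resolve_right hv, hb⟩
    have h5 := hli.fintype_card_le_finrank
    rwa [Fintype.card_fin] at h5
  -- `R`
  have d1 : fx {A, C} ⊓ fx {A', C} = (⊥ : Submodule F (ι → F)) := by
    rw [eq_bot_iff]
    rintro u ⟨h3, h4⟩
    exact Good_no_common h2 H hz (h3 A (Or.inl rfl)) (h4 A' (Or.inl rfl))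
  have hRA : R⁻¹ * A' * R = A⁻¹ := by
    have : A' = R * A⁻¹ * R⁻¹ := by rw [← inv_inv A', ← e3]; group
    rw [this]; group
  have hRC : R⁻¹ * C * R = C := by
    conv_lhs => rw [← e4]
    group
  have hS1 : ∀ x ∈ ({A', C} : Set P), R⁻¹ * x * R ∈ ({A, C} : Set P) ∨ (R⁻¹ * x * R)⁻¹ ∈ ({A, C} : Set P) := by
    rintro x (rfl | hx)
    · right; left; rw [hRA, inv_inv]
    · rw [Set.mem_singleton_iff.1 hx, hRC]; left; right; rfl
  have hU4 := two_mul_le R hS1 d1 (le_refl W)
  set U : Submodule F (ι → F) := W ⊔ W.map (Matrix.toLin' (mt R)) with hU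
  have hUC : U ≤ fx {C} := by
    apply sup_le
    · intro u hu x hx
      exact hu x (Or.inr hx)
    · refine (map_fx R hS1).trans ?_
      intro u hu x hx
      exact hu x (Or.inr hx)
  have hT2 : (T * R * T⁻¹)⁻¹ * (T * A' * T⁻¹) * (T * R * T⁻¹) = C⁻¹ := by
    calc (T * R * T⁻¹)⁻¹ * (T * A' * T⁻¹) * (T * R * T⁻¹) = T * (R⁻¹ * A' * R) * T⁻¹ := by group
      _ = C⁻¹ := by rw [hRA, hC]; group
  have d2 : fx {C} ⊓ fx {T * A' * T⁻¹} = (⊥ : Submodule F (ι → F)) := by
    rw [eq_bot_iff]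
    rintro u ⟨h3, h4⟩
    have h5 : mt (T⁻¹) *ᵥ u = 0 := by
      apply Good_no_common h2 H hz
      · have h6 := h3 C rfl
        rw [← mt_mulVec, show g 0 * T⁻¹ = T⁻¹ * C by rw [hC, ← hAdef]; group, mt_mulVec, h6]
      · have h6 := h4 _ rfl
        rw [← mt_mulVec, show g 1 * T⁻¹ = T⁻¹ * (T * A' * T⁻¹) by rw [← hA'def]; group, mt_mulVec, h6]
    have h6 := mt_inv_mulVec _ h5
    rw [Matrix.mulVec_zero] at h6
    exact h6.symm
  have hU8 := two_mul_le (T * R * T⁻¹) (S' := {T * A' * T⁻¹}) (by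
    intro x hx
    rw [Set.mem_singleton_iff.1 hx, hT2, inv_inv]
    exact Or.inr rfl) d2 hUC
  have h6 := Submodule.finrank_le (U ⊔ U.map (Matrix.toLin' (mt (T * R * T⁻¹))))
  rw [Module.finrank_fintype_fun_eq_card, hn] at h6
  omega

end rep

end Cfsg.Agent.H793.TD
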