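import Cfsg.Agent.H637.A7Cov
import Cfsg.Agent.H915.LD

/-!
# The double cover of `A₇` as a matrix group : the group side (helper793)

`P` a core with `P / scalars ≅ A₇`, fixing an alternating form, characteristic not two, scalars not trivial:
`exists_good` : `P` with its map to `A₇` is `H637.A7Cov.Good` with `z = -1`.
-/

set_option autoImplicit false
set_option linter.unusedSectionVars false

namespace Cfsg.Agent.H793.TD

open Cfsg Cfsg.Geo Matrix Cfsg.Agent.H637.A7Grp Cfsg.Agent.H637.A7Cov Cfsg.Agent.H915.LD Subgroup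

universe u v

section good

variable {D : Type u} [Group D] {π : D →* alternatingGroup (Fin 7)} {g : Fin 5 → D} {z : D} (H : Good π g z)

include H

/-- lifts of order three are unique -/
theorem cube_eq {a b : D} (h : π a = π b) (ha : a ^ 3 = 1) (hb : b ^ 3 = 1) : a = b := by
  rcases H.eq_or h with h1 | h1
  · exact h1
  · have h2 : (z * b) ^ 3 = z := by
      have hc : Commute z b := H.zc b
      rw [hc.mul_pow, hb, mul_one, pow_succ, pow_two, H.zz, one_mul]
    rw [h1, h2] at ha
    rw [h1, ha, one_mul]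

end good

/-- transfer along the first projection from a trivial group -/
theorem good_of_cover {P : Type u} [Group P] (π : P →* alternatingGroup (Fin 7)) (hπ : Function.Surjective π)
    (hk : ∀ k, π k = 1 → (∀ g, k * g = g * k) ∧ k * k = 1) (hperf : commutator P = ⊤) :
    ∃ (g : Fin 5 → P) (z : P), Good π g z := by
  obtain ⟨D, g, z, H, h1, -, -⟩ := exists_good (Q := Unit) (S := fun _ => 1) (m := 1) π hπ hk hperf
    (fun _ => rfl) (fun _ _ _ => rfl) rfl (fun _ => rfl)
  let f : D →* P := (MonoidHom.fst P Unit).comp D.subtype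
  have hf : Function.Surjective f := h1
  have hfin := H.fin
  refine ⟨fun i => f (g i), f z, ⟨Finite.of_surjective f hf, H.gP, fun i => ?_, fun i j hij => ?_, fun d => ?_, ?_, ?_,
    fun d hd => ?_⟩⟩
  · rw [← map_pow, H.cube, map_one]
  · rw [← map_mul, ← map_pow, H.sq i j hij]
  · obtain ⟨d', rfl⟩ := hf d
    rw [← map_mul, ← map_mul, H.zc]
  · rw [← map_mul, H.zz, map_one]
  · have h2 : (closure (Set.range g)).map f = ⊤ := by
      rw [H.gen, ← MonoidHom.range_eq_map, MonoidHom.range_eq_top]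
      exact hf
    rw [MonoidHom.map_closure, ← Set.range_comp] at h2
    exact h2
  · obtain ⟨d', rfl⟩ := hf d
    rcases H.ker d' hd with h | h
    · left; rw [h, map_one]
    · right; rw [h]

/-! ### elements of `A₇` -/

/-- maps `0, 1, 2` to `4, 5, 6` and these to `0, 2, 1` -/
def tP : Equiv.Perm (Fin 7) := c[0, 4] * c[1, 5, 2, 6]

/-- `(0 1) (2 3)` -/
def rP : Equiv.Perm (Fin 7) := c[0, 1] * c[2, 3]

theorem tP_sign : Equiv.Perm.sign tP = 1 := by decide +kernel
theorem rP_sign : Equiv.Perm.sign rP = 1 := by decide +kernel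

def tA : alternatingGroup (Fin 7) := ⟨tP, Equiv.Perm.mem_alternatingGroup.2 tP_sign⟩
def rA : alternatingGroup (Fin 7) := ⟨rP, Equiv.Perm.mem_alternatingGroup.2 rP_sign⟩

theorem tA_sq : (tA * tA) * (tA * tA) = 1 := by decide +kernel
theorem tA_sq_ne : tA * tA ≠ 1 := by decide +kernel
theorem rA_conj : rA * s 0 * rA⁻¹ = (s 1)⁻¹ := by decide +kernel
theorem rA_comm : rA * (tA * s 0 * tA⁻¹) * rA⁻¹ = tA * s 0 * tA⁻¹ := by decide +kernel
theorem s_comm : (tA * s 0 * tA⁻¹) * s 0 * (tA * s 0 * tA⁻¹)⁻¹ = s 0 := by decide +kernel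
theorem tA_conj : tA * (tA * s 0 * tA⁻¹) * tA⁻¹ = (s 0)⁻¹ := by decide +kernel

end Cfsg.Agent.H793.TD
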