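import Cfsg.Agent.H793.TD.Big

/-!
# The double cover of `A₇` in dimension six (helper793)

`a7_double` : a core with `P / scalars ≅ A₇` of degree six, fixing an alternating form, odd characteristic, scalars not
trivial, has characteristic three and `|F| = 9`.
-/

set_option autoImplicit false
set_option linter.unusedSectionVars false

namespace Cfsg.Agent.H793.TD

open Cfsg Cfsg.Geo Matrix Cfsg.Agent.H637.A7Grp Cfsg.Agent.H637.A7Cov Cfsg.Agent.H915.LD Subgroup

universe u v

/-- conjugates the seven-cycle to its square -/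
theorem x7_sq : ∃ c : alternatingGroup (Fin 7), c * x7 * c⁻¹ = x7 ^ 2 := by decide +kernel

/-- elements of order seven are conjugate to their squares -/
theorem seven_sq {d : alternatingGroup (Fin 7)} (h : (d : Equiv.Perm (Fin 7)).cycleType = {7}) :
    ∃ c : alternatingGroup (Fin 7), c * d * c⁻¹ = d ^ 2 := by
  obtain ⟨y, hy⟩ := x7_sq
  rcases seven_conj h with ⟨c, rfl⟩ | ⟨c, rfl⟩
  · refine ⟨c * y * c⁻¹, ?_⟩
    calc c * y * c⁻¹ * (c * x7 * c⁻¹) * (c * y * c⁻¹)⁻¹ = c * (y * x7 * y⁻¹) * c⁻¹ := by group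
      _ = (c * x7 * c⁻¹) ^ 2 := by rw [hy, conj_pow]
  · refine ⟨c * y * c⁻¹, ?_⟩
    calc c * y * c⁻¹ * (c * x7⁻¹ * c⁻¹) * (c * y * c⁻¹)⁻¹ = c * (y * x7 * y⁻¹)⁻¹ * c⁻¹ := by group
      _ = (c * x7⁻¹ * c⁻¹) ^ 2 := by rw [hy, conj_pow, inv_pow]

section rep

variable {ι : Type} [Fintype ι] [DecidableEq ι] {F : Type u} [Field F] {P : Subgroup (GL ι F)}
  {π : P →* alternatingGroup (Fin 7)} {g : Fin 5 → P} {z : P}

theorem pow_nine (H : Good π g z) {d : P} (h3 : ¬ 3 ∣ orderOf d) : ∃ c : P, c * d * c⁻¹ = d ^ 9 := by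
  have hz2 : z ^ 2 = 1 := by rw [pow_two, H.zz]
  have h3' : ¬ 3 ∣ orderOf (π d) := fun h => h3 (h.trans (orderOf_map_dvd π d))
  have hord : orderOf (π d) = (π d : Equiv.Perm (Fin 7)).cycleType.lcm := by
    rw [Equiv.Perm.lcm_cycleType, Subgroup.orderOf_coe]
  have hk : ∀ n, orderOf (π d) ∣ n → d ^ n = 1 ∨ d ^ n = z := by
    intro n hn
    apply H.ker
    rw [map_pow]
    exact orderOf_dvd_iff_pow_eq_one.1 hn
  have hk2 : ∀ n, orderOf (π d) ∣ n → d ^ (n * 2) = 1 := by
    intro n hn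
    rcases hk n hn with h | h
    · rw [pow_mul, h, one_pow]
    · rw [pow_mul, h, hz2]
  have h4 : orderOf (π d) ∣ 4 → ∃ c : P, c * d * c⁻¹ = d ^ 9 := by
    intro h
    have h1 := hk2 4 h
    exact ⟨1, by rw [one_mul, inv_one, mul_one, pow_succ, h1, one_mul]⟩
  rcases cycleType_cases (Equiv.Perm.mem_alternatingGroup.1 (π d).2) with h | h | h | h | h | h | h | h
  · rw [h] at hord
    exact h4 (by rw [hord]; decide)
  · rw [h] at hord; exact (h3' (by rw [hord]; decide)).elim
  · rw [h] at hord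
    exact h4 (by rw [hord]; decide)
  · rw [h] at hord; exact (h3' (by rw [hord]; decide)).elim
  · rw [h] at hord
    exact h4 (by rw [hord]; decide)
  · obtain ⟨y, hy⟩ := H.real (d := d) (by rw [h]; decide)
    refine ⟨y, hy.trans ?_⟩
    rw [h] at hord
    have h1 := hk2 5 (by rw [hord]; decide)
    rw [inv_eq_iff_mul_eq_one, ← pow_succ']
    exact h1
  · rw [h] at hord; exact (h3' (by rw [hord]; decide)).elim
  · obtain ⟨c, hc⟩ := seven_sq h
    obtain ⟨c', rfl⟩ := H.surj c
    rw [h] at hord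
    have h7 := hk 7 (by rw [hord]; decide)
    have h14 := hk2 7 (by rw [hord]; decide)
    have h77 : π d ^ 7 = 1 := by
      have := pow_orderOf_eq_one (π d)
      rwa [hord, show Multiset.lcm {7} = 7 by decide] at this
    have e1 : π (c' * d * c'⁻¹) = π (d ^ 9) := by
      rw [map_mul, map_mul, map_inv, hc, map_pow, show 9 = 7 + 2 from rfl, pow_add, h77, one_mul]
    rcases H.eq_or e1 with h1 | h1
    · exact ⟨c', h1⟩
    · have e2 : (c' * d * c'⁻¹) ^ 7 = d ^ 7 := by
        rw [conj_pow]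
        rcases h7 with h | h
        · rw [h, mul_one, mul_inv_cancel]
        · rw [h, ← H.zc, mul_inv_cancel_right]
      have e3 : (z * d ^ 9) ^ 7 = z * d ^ 7 := by
        have hc : Commute z (d ^ 9) := H.zc _
        rw [hc.mul_pow, show z ^ 7 = z by rw [show 7 = 2 * 3 + 1 from rfl, pow_succ, pow_mul, hz2, one_pow, one_mul],
          ← pow_mul, show 9 * 7 = 14 * 4 + 7 from rfl, pow_add, pow_mul, show 14 = 7 * 2 from rfl, h14, one_pow, one_mul]
      rw [h1, e3] at e2
      have e4 : z = 1 := mul_eq_right.1 e2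
      refine ⟨c', ?_⟩
      rw [h1, e4, one_mul]

/-- characteristic three: the traces lie in the field of order nine -/
theorem fr_nine [Finite F] [CharP F 3] (H : Good π g z) : Fr P (3 ^ 2) := by
  have : Fact (Nat.Prime 3) := ⟨Nat.prime_three⟩
  apply Fr.of_reg 3
  intro x hx ho
  obtain ⟨c, hc⟩ := pow_nine H (d := ⟨x, hx⟩) (by rwa [← Subgroup.orderOf_coe])
  have h1 : (c : GL ι F) * x * (c : GL ι F)⁻¹ = x ^ 9 := congrArg Subtype.val hc
  rw [← tr_pow_char 3 x 2, show 3 ^ 2 = 9 from rfl, ← h1, tr_conj]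

/-- the field of order three is impossible -/
theorem not_three (h2 : (2 : F) ≠ 0) (h3 : (3 : F) = 0) (hF : ∀ x : F, x ^ 3 = x) (hn : Fintype.card ι = 6)
    (H : Good π g z) (hz : mt z = -1) : False := by
  obtain ⟨T, hT⟩ := H.surj tA
  have hT4 : (T * T) * (T * T) = z := H.sq_eq (by rw [map_mul, hT]; exact tA_sq) (by rw [map_mul, hT]; exact tA_sq_ne)
  obtain ⟨y, hy⟩ := H.real (d := T) (by rw [hT]; decide +kernel)
  have hi2 : T⁻¹ * T⁻¹ = z * (T * T) := by
    rw [← _root_.mul_inv_rev]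
    apply inv_eq_of_mul_eq_one_left
    rw [mul_assoc, hT4, H.zz]
  -- the two operators
  obtain ⟨S, S_apply⟩ : ∃ S : Module.End F (ι → F), ∀ v, S v = mt T *ᵥ v - mt T⁻¹ *ᵥ v :=
    ⟨Matrix.toLin' (mt T - mt T⁻¹), fun v => by rw [Matrix.toLin'_apply, Matrix.sub_mulVec]⟩
  obtain ⟨R, R_apply⟩ : ∃ R : Module.End F (ι → F), ∀ v, R v = mt T *ᵥ v + mt T⁻¹ *ᵥ v :=
    ⟨Matrix.toLin' (mt T + mt T⁻¹), fun v => by rw [Matrix.toLin'_apply, Matrix.add_mulVec]⟩
  have t1 : ∀ v : ι → F, mt T *ᵥ (mt T⁻¹ *ᵥ v) = v := fun v => by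
    rw [← mt_mulVec, mul_inv_cancel, mt_one, Matrix.one_mulVec]
  have t2 : ∀ v : ι → F, mt T⁻¹ *ᵥ (mt T *ᵥ v) = v := fun v => by
    rw [← mt_mulVec, inv_mul_cancel, mt_one, Matrix.one_mulVec]
  have t3 : ∀ v : ι → F, mt T⁻¹ *ᵥ (mt T⁻¹ *ᵥ v) = -(mt T *ᵥ (mt T *ᵥ v)) := fun v => by
    rw [← mt_mulVec, hi2, mt_mulVec, hz, Matrix.neg_mulVec, Matrix.one_mulVec, mt_mulVec]
  have h3v : ∀ v : ι → F, v + v + v = 0 := fun v => by
    have : (3 : F) • v = 0 := by rw [h3, zero_smul]
    rw [← this, show (3 : F) = 1 + 1 + 1 by norm_num, add_smul, add_smul, one_smul]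
  have SS : ∀ v, S (S v) = v := by
    intro v
    rw [S_apply v, S_apply, Matrix.mulVec_sub, Matrix.mulVec_sub, t1, t2, t3]
    have := h3v v
    have e : mt T *ᵥ mt T *ᵥ v - v - (v - -(mt T *ᵥ mt T *ᵥ v)) = v - (v + v + v) := by abel
    rw [e, this, sub_zero]
  have RR : ∀ v, R (R v) = -v := by
    intro v
    rw [R_apply v, R_apply, Matrix.mulVec_add, Matrix.mulVec_add, t1, t2, t3]
    have := h3v v
    have e : mt T *ᵥ mt T *ᵥ v + v + (v + -(mt T *ᵥ mt T *ᵥ v)) = (v + v + v) - v := by abel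
    rw [e, this, zero_sub]
  have RS : ∀ v, R (S v) = S (R v) := by
    intro v
    rw [S_apply, R_apply, R_apply, S_apply, Matrix.mulVec_sub, Matrix.mulVec_sub, Matrix.mulVec_add, Matrix.mulVec_add,
      t1, t2]
    abel
  let Vp : Submodule F (ι → F) := LinearMap.ker (S - 1)
  let Vm : Submodule F (ι → F) := LinearMap.ker (S + 1)
  have hVp : ∀ {v}, v ∈ Vp ↔ S v = v := by
    intro v
    rw [LinearMap.mem_ker, LinearMap.sub_apply, Module.End.one_apply, sub_eq_zero]
  have hVm : ∀ {v}, v ∈ Vm ↔ S v = -v := by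
    intro v
    rw [LinearMap.mem_ker, LinearMap.add_apply, Module.End.one_apply, add_eq_zero_iff_eq_neg]
  have hyS : ∀ v, S (mt y *ᵥ v) = -(mt y *ᵥ S v) := by
    intro v
    have e1 : T * y = y * T⁻¹ := by
      have : y * T⁻¹ * y⁻¹ = T := by
        calc y * T⁻¹ * y⁻¹ = (y * T * y⁻¹)⁻¹ := by group
          _ = T := by rw [hy, inv_inv]
      nth_rewrite 1 [← this]
      group
    have e2 : T⁻¹ * y = y * T := by
      rw [← hy]; group
    rw [S_apply, S_apply, ← mt_mulVec, ← mt_mulVec, e1, e2, mt_mulVec, mt_mulVec, Matrix.mulVec_sub]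
    abel
  have hle1 : Vp.map (Matrix.toLin' (mt y)) ≤ Vm := by
    rintro _ ⟨v, hv, rfl⟩
    rw [hVm, Matrix.toLin'_apply, hyS, hVp.1 hv]
  have hle2 : Vm.map (Matrix.toLin' (mt y)) ≤ Vp := by
    rintro _ ⟨v, hv, rfl⟩
    rw [hVp, Matrix.toLin'_apply, hyS, hVm.1 hv, Matrix.mulVec_neg, neg_neg]
  have f1 := Submodule.finrank_mono hle1
  have f2 := Submodule.finrank_mono hle2
  rw [finrank_map] at f1 f2
  have hinf : Vp ⊓ Vm = ⊥ := by
    rw [eq_bot_iff]
    rintro v ⟨h4, h5⟩
    have h6 : v = -v := (hVp.1 h4).symm.trans (hVm.1 h5)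
    have h7 : (2 : F) • v = 0 := by
      rw [two_smul]
      nth_rewrite 1 [h6]
      exact neg_add_cancel v
    exact (smul_eq_zero.1 h7).resolve_left h2
  have hsup : Vp ⊔ Vm = ⊤ := by
    rw [eq_top_iff]
    intro v _
    have h4 : -(v + S v) ∈ Vp := by
      rw [hVp, map_neg, map_add, SS, add_comm]
    have h5 : -(v - S v) ∈ Vm := by
      rw [hVm, map_neg, map_sub, SS]
      abel
    have h6 : v = -(v + S v) + -(v - S v) := by
      have := h3v v
      have e : -(v + S v) + -(v - S v) = v - (v + v + v) := by abel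
      rw [e, this, sub_zero]
    rw [h6]
    exact Submodule.add_mem_sup h4 h5
  have f3 := Submodule.finrank_sup_add_finrank_inf_eq Vp Vm
  rw [hinf, hsup, finrank_bot, finrank_top, Module.finrank_fintype_fun_eq_card, hn] at f3
  have f4 : Module.finrank F Vp = 3 := by omega
  have hRV : ∀ v ∈ Vp, R v ∈ Vp := by
    intro v hv
    rw [hVp, ← RS, hVp.1 hv]
  let R' : Module.End F Vp := R.restrict hRV
  have h4 : R' * R' = (-1 : F) • 1 := by
    ext1 v
    apply Subtype.ext
    show R (R v) = (-1 : F) • (v : ι → F)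
    rw [RR, neg_smul, one_smul]
  have h5 := congrArg LinearMap.det h4
  rw [map_mul, LinearMap.det_smul, f4, map_one, mul_one] at h5
  set x := LinearMap.det R' with hx
  have h6 := hF x
  have h7 : (2 : F) * x = 0 := by linear_combination -h6 + x * h5
  have h8 : x = 0 := (mul_eq_zero.1 h7).resolve_left h2
  rw [h8] at h5
  norm_num at h5

end rep

section main

variable {ι : Type} [Fintype ι] [DecidableEq ι] {F : Type u} [Field F] {P : Subgroup (GL ι F)}

/-- `P` is the double cover -/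
theorem exists_good' (hC : Core P) (hA : FixA P) (hZ : (scalars ι F).subgroupOf P ≠ ⊥)
    (e : Soc P ≃* alternatingGroup (Fin 7)) :
    ∃ (π : P →* alternatingGroup (Fin 7)) (g : Fin 5 → P) (z : P), Good π g z ∧ mt z = -1 := by
  obtain ⟨f, hf, hfix⟩ := hA
  have hne := hC.nonempty
  have hpm : ∀ x : P, x ∈ (scalars ι F).subgroupOf P → mt x = 1 ∨ mt x = -1 := by
    intro x hx
    rw [Subgroup.mem_subgroupOf, mem_scalars_iff] at hx
    obtain ⟨c, hc⟩ := hx
    obtain ⟨i⟩ := hne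
    have hv : (Pi.single i 1 : ι → F) ≠ 0 := by
      intro h
      have := congrFun h i
      simp at this
    obtain ⟨w, hw⟩ := (hf.nondegenerate _ hv).2
    have h1 := hfix _ ⟨_, x.2, rfl⟩ (Pi.single i 1) w
    simp only [hc, Matrix.smul_mulVec, Matrix.one_mulVec] at h1
    rw [hf.bilinear.smul_left, hf.bilinear.smul_right] at h1
    have h2 : ((c : F) * c - 1) * f (Pi.single i 1) w = 0 := by linear_combination h1
    have h3 : ((c : F) - 1) * (c + 1) = 0 := by linear_combination (mul_eq_zero.1 h2).resolve_right hw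
    rcases mul_eq_zero.1 h3 with h | h
    · left
      show ((x : GL ι F) : Matrix ι ι F) = 1
      rw [hc, sub_eq_zero.1 h, one_smul]
    · right
      show ((x : GL ι F) : Matrix ι ι F) = -1
      rw [hc, eq_neg_of_add_eq_zero_left h, neg_smul, one_smul]
  have mt_inj : ∀ {x y : P}, mt x = mt y → x = y := fun h => Subtype.ext (Units.ext h)
  let π : P →* alternatingGroup (Fin 7) := e.toMonoidHom.comp (toSoc P)
  have hker : ∀ x, π x = 1 → x ∈ (scalars ι F).subgroupOf P := by
    intro x hx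
    rw [← ker_comp e]
    exact hx
  have hk : ∀ k, π k = 1 → (∀ g, k * g = g * k) ∧ k * k = 1 := by
    intro k hk
    have h1 := hker k hk
    refine ⟨fun g => ((Subgroup.mem_center_iff.1 (scalars_le_center h1)) g).symm, ?_⟩
    apply mt_inj
    rw [mt_mul, mt_one]
    rcases hpm k h1 with h | h
    · rw [h, one_mul]
    · rw [h, neg_mul_neg, one_mul]
  obtain ⟨g, z, H⟩ := good_of_cover π (e.surjective.comp (toSoc_surjective P)) hk hC.commutator_top
  refine ⟨π, g, z, H, ?_⟩
  rcases hpm z (hker z H.pi_z) with h | h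
  · exfalso
    apply hZ
    have hz1 : z = 1 := mt_inj (h.trans mt_one.symm)
    rw [Subgroup.eq_bot_iff_forall]
    intro x hx
    have h2 : π x = 1 := by
      have h3 : x ∈ (e.toMonoidHom.comp (toSoc P)).ker := by rw [ker_comp e]; exact hx
      exact h3
    rcases H.ker x h2 with h3 | h3
    · exact h3
    · rw [h3, hz1]
  · exact h

/-- **The double cover of `A₇` in dimension six.** -/
theorem a7_double [Fintype F] (p : ℕ) [hp : Fact p.Prime] [CharP F p] (hC : Core P) (h2 : p ≠ 2) (hA : FixA P)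
    (hn : Fintype.card ι = 6) (hZ : (scalars ι F).subgroupOf P ≠ ⊥) (e : Soc P ≃* alternatingGroup (Fin 7)) :
    p = 3 ∧ Fintype.card F = 9 := by
  obtain ⟨π, g, z, H, hz⟩ := exists_good' hC hA hZ e
  have h20 : (2 : F) ≠ 0 := by
    intro h
    apply h2
    have h1 : ((2 : ℕ) : F) = 0 := by exact_mod_cast h
    exact ((Nat.prime_dvd_prime_iff_eq hp.out Nat.prime_two).1 ((CharP.cast_eq_zero_iff F p 2).1 h1))
  have hp3 : p = 3 := by
    by_contra hp3
    have h30 : (3 : F) ≠ 0 := by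
      intro h
      apply hp3
      have h1 : ((3 : ℕ) : F) = 0 := by exact_mod_cast h
      exact ((Nat.prime_dvd_prime_iff_eq hp.out Nat.prime_three).1 ((CharP.cast_eq_zero_iff F p 3).1 h1))
    exact not_big h20 h30 hn H hz hA
  refine ⟨hp3, ?_⟩
  subst hp3
  have h1 := hC.card_le 3 two_ne_zero (fr_nine H)
  obtain ⟨k, -, hk⟩ := FiniteField.card F 3
  have hk3 : (k : ℕ) = 1 ∨ (k : ℕ) = 2 := by
    have hk2 : (k : ℕ) ≤ 2 := by
      by_contra h3
      push Not at h3
      have := Nat.pow_lt_pow_right (a := 3) (by norm_num) h3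
      omega
    have := k.pos
    omega
  rcases hk3 with h | h
  · exfalso
    rw [h, pow_one] at hk
    have h30 : (3 : F) = 0 := by exact_mod_cast CharP.cast_eq_zero F 3
    exact not_three h20 h30 (fun x => by rw [← hk, FiniteField.pow_card]) hn H hz
  · rw [h] at hk
    exact hk

end main

end Cfsg.Agent.H793.TD
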